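import Mathlib
import Cfsg.Agent.Small.Toolkit
import Cfsg.Agent.Chars.Burnside
import Cfsg.Agent.Chars.Count
import Cfsg.Agent.Chars.LargestDegreeTools
import Cfsg.Agent.Blocks.SmallOrder.Basic

/-!
# Preliminaries for simple groups of order `4p^aq^b` and `3p^aq^b`
-/

set_option autoImplicit false
set_option linter.unusedSectionVars false

namespace Cfsg.Lib.Small.FourPQ

open Cfsg Cfsg.Lib.Chars
open scoped ComplexConjugate _root_.Classical

universe u

variable {G : Type u} [Group G] [Finite G] [IsSimpleGroup G]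
  (hnc : ¬ ∀ a b : G, a * b = b * a)
include hnc

theorem false_of_two_primes {p q : ℕ} (hp : p.Prime) (hq : q.Prime) {a b : ℕ}
    (h : Nat.card G = p ^ a * q ^ b) : False := by
  haveI := Cfsg.Lib.Chars.burnside_isSolvable p q hp hq G ⟨a, b, h⟩
  exact hnc (IsSimpleGroup.comm_iff_isSolvable.2 inferInstance)

theorem center_eq_bot' : Subgroup.center G = ⊥ := by
  refine (IsSimpleGroup.eq_bot_or_eq_top_of_normal (Subgroup.center G) inferInstance).resolve_right
    fun h => hnc fun a b => ?_
  exact ((Subgroup.mem_center_iff.1 (h ▸ Subgroup.mem_top b)) a)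

theorem not_isCyclic : ¬ IsCyclic G := fun h => hnc fun a b => by
  letI := h.commGroup
  exact mul_comm a b

theorem perfect : commutator G = ⊤ := by
  refine (Subgroup.Normal.eq_bot_or_eq_top inferInstance).resolve_left fun h => hnc fun a b => ?_
  have := (commutator_eq_bot_iff_center_eq_top G).1 h
  exact (Subgroup.mem_center_iff.1 (this ▸ Subgroup.mem_top b)) a

theorem two_le_deg [Fintype G] {χ : IrrCharacter G} (hχ : χ ≠ principal G) :
    2 ≤ deg (χ : G → ℂ) := by
  have := deg_irr_pos χ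
  by_contra hlt
  exact hχ (Cfsg.Lib.Blocks.SmallOrder.eq_one_of_deg_one (perfect hnc) (by omega))

/-- A nontrivial character of a simple group is faithful. -/
theorem faithful [Fintype G] {χ : IrrCharacter G} (hχ : χ ≠ principal G) {g : G}
    (hg : (χ : G → ℂ) g = (χ : G → ℂ) 1) : g = 1 := by
  have hχc := isCharacter_of_irr χ.2
  rcases (kerSubgroup_normal hχc).eq_bot_or_eq_top with e | e
  · exact Subgroup.mem_bot.1 (e ▸ (mem_kerSubgroup hχc g).2 hg)
  · exfalso
    have hv : ∀ x : G, (χ : G → ℂ) x = (χ : G → ℂ) 1 := fun x =>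
      (mem_kerSubgroup hχc x).1 (e ▸ Subgroup.mem_top x)
    have h := classInner_irr_ne hχ
    rw [classInner_def] at h
    simp only [show ∀ x : G, (principal G : G → ℂ) x = 1 from fun _ => rfl, map_one, mul_one, hv,
      irr_apply_one_eq_deg, Finset.sum_const, Finset.card_univ, nsmul_eq_mul,
      mul_eq_zero, inv_eq_zero, Nat.cast_eq_zero] at h
    rcases h with h | h | h
    · exact Nat.card_pos.ne' h
    · exact Fintype.card_ne_zero h
    · exact (deg_irr_pos χ).ne' h

/-- A character of degree prime to the class size of a nontrivial element vanishes there. -/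
theorem apply_eq_zero_of_coprime [Fintype G] {χ : IrrCharacter G} (hχ : χ ≠ principal G) {y : G}
    (hy : y ≠ 1) (hcop : (deg (χ : G → ℂ)).Coprime (Nat.card {x : G // IsConj y x})) :
    (χ : G → ℂ) y = 0 := by
  refine (burnside_zero_or_max χ.2 y hcop).resolve_right fun hnorm => hy ?_
  obtain ⟨n, ρ, hρ, hchar⟩ := χ.2
  rw [← hchar, ρ.char_one, Complex.natCast_re] at hnorm
  obtain ⟨ω, hω, -⟩ := scalar_of_norm_character_eq ρ y hnorm
  have hc : y ∈ Subgroup.center G := by
    refine Subgroup.mem_center_iff.2 fun x => ?_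
    have e : ρ (x * y * x⁻¹ * y⁻¹) = 1 := by
      have h1 : ρ y * ρ y⁻¹ = 1 := by rw [← map_mul, mul_inv_cancel, map_one]
      have h2 : ρ x * ρ x⁻¹ = 1 := by rw [← map_mul, mul_inv_cancel, map_one]
      have h3 : ρ x * ρ y = ρ y * ρ x := by rw [hω]; ext v; simp
      rw [map_mul, map_mul, map_mul, h3, mul_assoc (ρ y), h2, mul_one, h1]
    have : x * y * x⁻¹ * y⁻¹ = 1 := faithful hnc hχ (by
      rw [← hchar]; simp only [Representation.character, e, map_one])
    exact mul_inv_eq_iff_eq_mul.1 (mul_inv_eq_one.1 this)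
  rwa [center_eq_bot' hnc, Subgroup.mem_bot] at hc

/-- No nontrivial character has degree `p` if the Sylow subgroup has order `p²`. -/
theorem deg_ne_prime [Fintype G] {p : ℕ} [Fact p.Prime] (P : Sylow p G)
    (hP : Nat.card (P : Subgroup G) = p ^ 2) {χ : IrrCharacter G} (hχ : χ ≠ principal G) :
    deg (χ : G → ℂ) ≠ p := by
  intro hd
  have hp := (Fact.out : p.Prime)
  have hab : ∀ a ∈ (P : Subgroup G), ∀ b ∈ (P : Subgroup G), Commute a b := fun a ha b hb =>
    congrArg Subtype.val (IsPGroup.commutative_of_card_eq_prime_sq (p := p) hP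
      (⟨a, ha⟩ : (P : Subgroup G)) ⟨b, hb⟩)
  have hvan : ∀ y ∈ (P : Subgroup G), y ≠ 1 → (χ : G → ℂ) y = 0 := by
    intro y hy hy1
    refine apply_eq_zero_of_coprime hnc hχ hy1 ?_
    rw [hd, hp.coprime_iff_not_dvd]
    intro hdvd
    have hle : (P : Subgroup G) ≤ Subgroup.centralizer ({y} : Set G) := fun u hu =>
      Subgroup.mem_centralizer_singleton_iff.2 (hab u hu y hy).eq
    have h1 := card_isConj_mul y
    have h2 := (Subgroup.card_dvd_of_le hle)
    rw [hP] at h2
    obtain ⟨k, hk⟩ := h2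
    obtain ⟨l, hl⟩ := hdvd
    rw [hl, hk] at h1
    refine P.not_dvd_index ?_
    refine ⟨l * k, ?_⟩
    have h3 := (P : Subgroup G).index_mul_card
    rw [hP, ← h1] at h3
    exact Nat.eq_of_mul_eq_mul_right (pow_pos hp.pos 2) (by rw [h3]; ring)
  letI := Fintype.ofFinite (P : Subgroup G)
  obtain ⟨m, hm⟩ := IsCharacter.exists_mult
    (IsCharacter.restrict (isCharacter_of_irr χ.2) (P : Subgroup G))
    (isIrrCharacter_one (G := (P : Subgroup G)))
  rw [classInner_def, inv_mul_eq_iff_eq_mul₀ (Nat.cast_ne_zero.2 Nat.card_pos.ne'),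
    ← Finset.add_sum_erase _ _ (Finset.mem_univ (1 : (P : Subgroup G))), hP,
    Finset.sum_eq_zero fun (u : (P : Subgroup G)) (hu : u ∈ Finset.univ.erase 1) => by
      have hne : (u : G) ≠ 1 := fun h => Finset.ne_of_mem_erase hu (Subtype.ext h)
      show (χ : G → ℂ) (u : G) * conj (1 : ℂ) = 0
      rw [hvan _ u.2 hne, zero_mul],
    add_zero, map_one, mul_one, OneMemClass.coe_one, irr_apply_one_eq_deg, hd] at hm
  have h2 : p = p ^ 2 * m := by exact_mod_cast hm
  have := hp.two_le
  rcases Nat.eq_zero_or_pos m with h0 | h0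
  · rw [h0, mul_zero] at h2; omega
  · have : p ^ 2 ≤ p ^ 2 * m := Nat.le_mul_of_pos_right _ h0
    rw [← h2] at this
    nlinarith

end Cfsg.Lib.Small.FourPQ
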