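import Mathlib
import Cfsg.Agent.Small.FourPQ.Tools
import Cfsg.Agent.Blocks.DegreeEquation.Data
import Cfsg.Agent.Blocks.BrauerTuan.Main
import Cfsg.Agent.S0992

/-!
# The degree equation at the primes five and three
-/

set_option autoImplicit false
set_option linter.unusedSectionVars false

namespace Cfsg.Lib.Small.FourPQ

open Cfsg Cfsg.Lib.Chars Cfsg.Lib.Blocks Cfsg.Lib.Blocks.SmallOrder Cfsg.Lib.Blocks.SylowCount
  Cfsg.Lib.Blocks.DegreeEquation
open scoped _root_.Classical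

universe u

variable {G : Type u} [Group G] [Finite G] [IsSimpleGroup G]

theorem exists_core [Fintype G] (hnc : ¬ ∀ a b : G, a * b = b * a) {p : ℕ} [Fact p.Prime]
    (hd : p ∣ Nat.card G) (hsq : ¬ p ^ 2 ∣ Nat.card G) : ∃ C : Cyc G p, Core C := by
  obtain ⟨P⟩ : Nonempty (Sylow p G) := inferInstance
  obtain ⟨C, hC⟩ := exists_cyc hd hsq P
  exact ⟨C, perfect hnc, ⟨P, hC⟩, fun N hN hne => by
    rw [hN.eq_bot_or_eq_top.resolve_left hne]
    exact Subgroup.mem_top _⟩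

theorem card_ne_1620 (hnc : ¬ ∀ a b : G, a * b = b * a) : Nat.card G ≠ 1620 := by
  intro hcard
  letI := Fintype.ofFinite G
  haveI : Fact (Nat.Prime 5) := ⟨by norm_num⟩
  haveI : Fact (Nat.Prime 2) := ⟨Nat.prime_two⟩
  obtain ⟨C, hC⟩ := exists_core hnc (p := 5) (by rw [hcard]; norm_num) (by rw [hcard]; norm_num)
  obtain ⟨M, hM⟩ := exists_isPModular (Fact.out : Nat.Prime 5)
  obtain ⟨ν, δ, hD⟩ := C.exists_orbitData hM C.oneV
  obtain ⟨a, l, hlen, hsum, -, hl⟩ := degree_equation hC hM hD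
  have he2 := hC.two_le_eC
  have hed : eC C ∣ 4 := eC_dvd C
  obtain ⟨n, hn0, hn⟩ := hC.exists_idx
  have heq := card_eq C
  rw [hcard] at heq
  have he : eC C = 2 := by
    have := Nat.le_of_dvd (by norm_num) hed
    interval_cases hE : eC C
    · rfl
    · norm_num at hed
    · exfalso
      -- a Klein Sylow subgroup leaves no element of order four
      obtain ⟨⟨u, hu⟩, hu4⟩ := IsCyclic.exists_ofOrder_eq_natCard (α := C.act.range)
      obtain ⟨h, rfl⟩ := hu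
      have h4 : 4 ∣ orderOf (h : G) := by
        rw [Subgroup.orderOf_coe]
        refine Dvd.dvd.trans ?_ (orderOf_map_dvd C.act h)
        have e4 : orderOf (C.act h) = 4 := by
          rw [← Subgroup.orderOf_coe] at hu4
          exact hu4.trans hE
        rw [e4]
      set g : G := (h : G) ^ (orderOf (h : G) / 4) with hgdef
      have hg : orderOf g = 4 := orderOf_pow_orderOf_div (orderOf_pos _).ne' h4
      obtain ⟨T, hT⟩ := (IsPGroup.of_card (p := 2) (n := 2)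
        (by rw [Nat.card_zpowers, hg]; norm_num : Nat.card (Subgroup.zpowers g) = 2 ^ 2)).exists_le_sylow
      obtain ⟨hK, -⟩ := Cfsg.Agent.S0992.result (fun hc => hnc fun a b => hc.is_comm.comm a b)
        (by rw [hcard]; exact ⟨810, rfl⟩) (by rw [hcard]; norm_num) T
      haveI := hK
      have h2 := congrArg Subtype.val (IsKleinFour.mul_self
        (⟨g, hT (Subgroup.mem_zpowers g)⟩ : (T : Subgroup G)))
      simp only [Subgroup.coe_mul, Subgroup.coe_one] at h2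
      have := orderOf_dvd_of_pow_eq_one (show g ^ 2 = 1 by rw [pow_two]; exact h2)
      rw [hg] at this
      norm_num at this
  rw [he] at heq hlen
  obtain ⟨z, rfl⟩ : ∃ z, l = [z] := List.length_eq_one_iff.1 (by omega)
  obtain ⟨⟨hd, hz2, -, hsq, hcong⟩, -, ha2, -⟩ := hl z (List.mem_singleton_self z)
  rw [he] at hd
  rw [hcard] at hsq
  have hprod : idx C * Nat.card C.V = 162 := by
    have : 10 * (idx C * Nat.card C.V) = 1620 := by rw [heq]; ring
    omega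
  have hidx : idx C = 6 ∨ idx C = 81 := by
    have hdiv : idx C ∣ 162 := ⟨_, hprod.symm⟩
    have := Nat.le_of_dvd (by norm_num) hdiv
    have hmem := Nat.mem_divisors.2 ⟨hdiv, by norm_num⟩
    rw [show Nat.divisors 162 = {1, 2, 3, 6, 9, 18, 27, 54, 81, 162} by decide] at hmem
    simp only [Finset.mem_insert, Finset.mem_singleton] at hmem
    omega
  have hv : Nat.card C.V ≠ 1 := by
    intro hv
    rw [hv] at hprod
    omega
  have hz10 : 10 ≤ z.natAbs := by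
    by_contra hlt
    exact hv (ha2 (by omega))
  have hz40 : z.natAbs ≤ 40 := by
    by_contra hlt
    have : 41 * 41 ≤ z.natAbs * z.natAbs := Nat.mul_le_mul (by omega) (by omega)
    omega
  obtain ⟨k, hk⟩ := hcong
  obtain ⟨w, hw⟩ : ∃ w, w = z.natAbs := ⟨_, rfl⟩
  rw [← hw] at hd hz10 hz40
  rcases hidx with e | e <;> rw [e] at hd <;> interval_cases w <;> first
    | (norm_num at hd; done)
    | omega

theorem natAbs_consecutive {x y : ℕ} (hx : 2 ≤ x) (hy : 2 ≤ y) {a b : ℤ}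
    (ha : a = x ∨ a = -x) (hb : b = y ∨ b = -y) (h : 1 + a = b ∨ a + b = 1 ∨ a + b = -1) :
    x + 1 = y ∨ y + 1 = x := by
  omega

/-- The principal block at the prime three has two consecutive degrees. -/
theorem exists_consecutive [Fintype G] (hnc : ¬ ∀ a b : G, a * b = b * a) [Fact (Nat.Prime 3)]
    (hd : 3 ∣ Nat.card G) (hsq : ¬ 3 ^ 2 ∣ Nat.card G) :
    2 ∣ Nat.card G ∧ ∃ χ η : IrrCharacter G, χ ≠ principal G ∧ η ≠ principal G ∧
      deg (χ : G → ℂ) + 1 = deg (η : G → ℂ) ∧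
      ¬ 3 ∣ deg (χ : G → ℂ) ∧ ¬ 3 ∣ deg (η : G → ℂ) := by
  obtain ⟨C, hC⟩ := exists_core hnc (p := 3) hd hsq
  obtain ⟨M, hM⟩ := exists_isPModular (Fact.out : Nat.Prime 3)
  obtain ⟨ν, δ, hD⟩ := C.exists_orbitData hM C.oneV
  have he : eC C = 2 := by
    have h1 := hC.two_le_eC
    have h2 := Nat.le_of_dvd (by norm_num) (eC_dvd C)
    omega
  refine ⟨?_, ?_⟩
  · rw [card_eq C, he]
    exact Dvd.dvd.mul_left (dvd_mul_right 2 _) _
  have hrel := relation hD
  have hc := card_ordSet hD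
  rw [he] at hc
  have hone : ((principal G : IrrCharacter G) : G → ℂ) = (oneG G : G → ℂ) := rfl
  have hne : ∀ {χ : IrrCharacter G}, χ ≠ oneG G → χ ≠ principal G := fun h e =>
    h (e.trans (Subtype.ext hone))
  -- ordinary characters
  have hord : ∀ χ ∈ ordSet C ν, χ ≠ oneG G → ¬ 3 ∣ deg (χ : G → ℂ) ∧
      2 ≤ deg (χ : G → ℂ) ∧ (C.bI χ C.oneV 1 * (deg (χ : G → ℂ) : ℤ) = deg (χ : G → ℂ) ∨
        C.bI χ C.oneV 1 * (deg (χ : G → ℂ) : ℤ) = -(deg (χ : G → ℂ) : ℤ)) := by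
    intro χ hχ h1
    obtain ⟨-, -, -, -, hcong⟩ := isTerm_ord hC hM hD hχ h1
    obtain ⟨k, hk⟩ := hcong
    rcases hD.sign_diff (χ := χ) (mem_ordSet.1 hχ) with e | e <;> rw [e] at hk ⊢ <;>
      refine ⟨fun h3 => ?_, (deg_bounds hC h1).1, by simp⟩ <;>
      (obtain ⟨j, hj⟩ := h3; rw [hj] at hk; push_cast at hk; omega)
  by_cases hr : oneG G ∈ Set.range ν
  · obtain ⟨u, hu⟩ := hr
    have hx0 : deg (ν 1 : G → ℂ) = 1 := by rw [← deg_exc hD u, hu, deg_oneG]
    have hno : ∀ χ ∈ ordSet C ν, χ ≠ oneG G := fun χ hχ e =>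
      (mem_ordSet.1 hχ).2 ⟨u, by rw [hu, e]⟩
    obtain ⟨χ, η, hχη, hS⟩ := Finset.card_eq_two.1 hc
    rw [hS, Finset.sum_pair hχη, hx0, Nat.cast_one, mul_one] at hrel
    have hχ : χ ∈ ordSet C ν := by rw [hS]; simp
    have hη : η ∈ ordSet C ν := by rw [hS]; simp
    obtain ⟨a3, a2, ea⟩ := hord χ hχ (hno χ hχ)
    obtain ⟨b3, b2, eb⟩ := hord η hη (hno η hη)
    rcases natAbs_consecutive a2 b2 ea eb (by rcases hD.sign with e | e <;> rw [e] at hrel <;> omega) with h | h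
    · exact ⟨χ, η, hne (hno χ hχ), hne (hno η hη), h, a3, b3⟩
    · exact ⟨η, χ, hne (hno η hη), hne (hno χ hχ), h, b3, a3⟩
  · have hm : oneG G ∈ ordSet C ν := mem_ordSet.2 ⟨lies_oneG, hr⟩
    obtain ⟨χ, hχS⟩ := Finset.card_eq_one.1 (show ((ordSet C ν).erase (oneG G)).card = 1 by
      rw [Finset.card_erase_of_mem hm, hc])
    rw [← Finset.add_sum_erase _ _ hm, hχS, Finset.sum_singleton, bI_oneG' hM hD hr, deg_oneG,
      Nat.cast_one, mul_one] at hrel
    have hχ : χ ∈ (ordSet C ν).erase (oneG G) := by rw [hχS]; simp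
    obtain ⟨a3, a2, ea⟩ := hord χ (Finset.mem_of_mem_erase hχ) (Finset.ne_of_mem_erase hχ)
    have h1 : ν 1 ≠ oneG G := fun e => hr ⟨1, e⟩
    have b2 := (deg_bounds hC h1).1
    obtain ⟨-, -, -, -, hcong⟩ := isTerm_exc hC hM hD hr
    have b3 : ¬ 3 ∣ deg (ν 1 : G → ℂ) := by
      rintro ⟨j, hj⟩
      obtain ⟨k, hk⟩ := hcong
      rw [he, hj] at hk
      push_cast at hk
      rcases hD.sign with e | e <;> rw [e] at hk <;> omega
    rcases natAbs_consecutive a2 b2 ea (b := δ * (deg (ν 1 : G → ℂ) : ℤ))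
      (by rcases hD.sign with e | e <;> rw [e] <;> simp) (Or.inl hrel) with h | h
    · exact ⟨χ, ν 1, hne (Finset.ne_of_mem_erase hχ), hne h1, h, a3, b3⟩
    · exact ⟨ν 1, χ, hne h1, hne (Finset.ne_of_mem_erase hχ), h, b3, a3⟩

/-- The orders `3p²q^b` for odd `p ≥ 5`. -/
theorem false_of_three_sq (hnc : ¬ ∀ a b : G, a * b = b * a) {p q b : ℕ} (hp : p.Prime)
    (hq : q.Prime) (hpq : p ≠ q) (hp5 : 5 ≤ p) (hq3 : q ≠ 3)
    (hG : Nat.card G = 3 * p ^ 2 * q ^ b) : False := by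
  letI := Fintype.ofFinite G
  haveI : Fact (Nat.Prime 3) := ⟨Nat.prime_three⟩
  haveI : Fact p.Prime := ⟨hp⟩
  have h3p : ¬ 3 ∣ p ^ 2 * q ^ b := fun h => by
    rcases Nat.prime_three.dvd_mul.1 h with h | h
    · have := (Nat.prime_dvd_prime_iff_eq Nat.prime_three hp).1 (Nat.prime_three.dvd_of_dvd_pow h)
      omega
    · exact hq3 ((Nat.prime_dvd_prime_iff_eq Nat.prime_three hq).1 (Nat.prime_three.dvd_of_dvd_pow h)).symm
  obtain ⟨h2, χ, η, hχ, hη, hsucc, hχ3, hη3⟩ := exists_consecutive hnc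
    (by rw [hG, mul_assoc]; exact dvd_mul_right _ _) (by
      rw [hG, mul_assoc, pow_two]
      exact fun h => h3p (Nat.dvd_of_mul_dvd_mul_left (by norm_num) h))
  have hq2 : q = 2 := by
    rw [hG] at h2
    rcases Nat.prime_two.dvd_mul.1 h2 with h | h
    · rcases Nat.prime_two.dvd_mul.1 h with h | h
      · norm_num at h
      · have := (Nat.prime_dvd_prime_iff_eq Nat.prime_two hp).1 (Nat.prime_two.dvd_of_dvd_pow h)
        omega
    · exact ((Nat.prime_dvd_prime_iff_eq Nat.prime_two hq).1 (Nat.prime_two.dvd_of_dvd_pow h)).symm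
  subst hq2
  obtain ⟨Q⟩ : Nonempty (Sylow p G) := inferInstance
  have hQ : Nat.card (Q : Subgroup G) = p ^ 2 :=
    Cfsg.Lib.Small.card_sylow_of_factor Q (m := 3 * 2 ^ b) (by rw [hG]; ring) fun h => by
      rcases hp.dvd_mul.1 h with h | h
      · have := Nat.le_of_dvd (by norm_num) h; omega
      · have := (Nat.prime_dvd_prime_iff_eq hp Nat.prime_two).1 (hp.dvd_of_dvd_pow h); omega
  have hdiv : ∀ φ : IrrCharacter G, ¬ 3 ∣ deg (φ : G → ℂ) → deg (φ : G → ℂ) ∣ p ^ 2 * 2 ^ b :=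
    fun φ h => ((Nat.prime_three.coprime_iff_not_dvd).2 h).symm.dvd_of_dvd_mul_left
      (by rw [← mul_assoc, ← hG]; exact IsIrrCharacter.deg_dvd φ.2)
  have hodd : ∀ φ : IrrCharacter G, φ ≠ principal G → ¬ 3 ∣ deg (φ : G → ℂ) →
      ¬ 2 ∣ deg (φ : G → ℂ) → deg (φ : G → ℂ) = p ^ 2 := by
    intro φ h1 h3 h2
    obtain ⟨i, hi2, hi⟩ := (Nat.dvd_prime_pow hp).1
      ((((Nat.prime_two.coprime_iff_not_dvd).2 h2).symm.pow_right b).dvd_of_dvd_mul_right (hdiv φ h3))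
    have hd := two_le_deg hnc h1
    rcases (show i = 0 ∨ i = 1 ∨ i = 2 by omega) with rfl | rfl | rfl
    · rw [hi, pow_zero] at hd; omega
    · exact absurd (hi.trans (pow_one p)) (deg_ne_prime hnc Q hQ h1)
    · exact hi
  obtain ⟨k, hk⟩ := hp.odd_of_ne_two (by omega)
  have hk2 : 2 ≤ k := by omega
  by_cases hpar : 2 ∣ deg (χ : G → ℂ)
  · have hy := hodd η hη hη3 (by omega)
    rw [hy] at hsucc
    have hco : Nat.Coprime (deg (χ : G → ℂ)) (p ^ 2) := by
      rw [← hsucc, Nat.coprime_self_add_right]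
      exact Nat.coprime_one_right _
    obtain ⟨i, -, hi⟩ := (Nat.dvd_prime_pow Nat.prime_two).1 (hco.dvd_of_dvd_mul_left (hdiv χ hχ3))
    have hx : (p - 1) * (p + 1) = 2 ^ i := by
      rw [← hi]
      obtain ⟨p', rfl⟩ : ∃ p', p = p' + 1 := ⟨p - 1, by omega⟩
      rw [Nat.add_sub_cancel]
      have : (p' + 1) ^ 2 = p' * (p' + 1 + 1) + 1 := by ring
      omega
    obtain ⟨s, -, hs⟩ := (Nat.dvd_prime_pow Nat.prime_two).1 (Dvd.intro _ hx : p - 1 ∣ 2 ^ i)
    obtain ⟨t, -, ht⟩ := (Nat.dvd_prime_pow Nat.prime_two).1 (Dvd.intro_left _ hx : p + 1 ∣ 2 ^ i)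
    rcases lt_or_ge s 2 with h | h
    · interval_cases s <;> omega
    rcases lt_or_ge t 2 with h' | h'
    · interval_cases t <;> omega
    obtain ⟨u, hu⟩ : 4 ∣ 2 ^ s := (pow_dvd_pow 2 h : 2 ^ 2 ∣ 2 ^ s)
    obtain ⟨v, hv⟩ : 4 ∣ 2 ^ t := (pow_dvd_pow 2 h' : 2 ^ 2 ∣ 2 ^ t)
    omega
  · have hy := hodd χ hχ hχ3 hpar
    rw [hy] at hsucc
    have hco : Nat.Coprime (deg (η : G → ℂ)) (p ^ 2) := by
      rw [← hsucc, Nat.coprime_self_add_left]
      exact Nat.coprime_one_left _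
    obtain ⟨i, -, hi⟩ := (Nat.dvd_prime_pow Nat.prime_two).1 (hco.dvd_of_dvd_mul_left (hdiv η hη3))
    have e : p ^ 2 + 1 = 4 * (k * k + k) + 2 := by rw [hk]; ring
    have hkk : 6 ≤ k * k + k := by nlinarith
    rcases lt_or_ge i 2 with h | h
    · interval_cases i <;> omega
    obtain ⟨u, hu⟩ : 4 ∣ 2 ^ i := (pow_dvd_pow 2 h : 2 ^ 2 ∣ 2 ^ i)
    omega

end Cfsg.Lib.Small.FourPQ
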