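import Mathlib
import Cfsg.Agent.Small.FourPQ.Tools
import Cfsg.Agent.Blocks.KleinFourOrder
import Cfsg.Agent.Blocks.SmallOrder.Basic

/-!
# The principal 2-block excludes the orders `4p²3^b`
-/

set_option autoImplicit false
set_option linter.unusedSectionVars false

namespace Cfsg.Lib.Small.FourPQ

open Cfsg Cfsg.Lib.Chars Cfsg.Lib.Blocks
open scoped ComplexConjugate _root_.Classical

universe u

theorem not_succ_sq_smooth {p : ℕ} (hp : p.Prime) (hp5 : 5 ≤ p) {B : ℕ}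
    (h : p ^ 2 + 1 ∣ 2 ^ B * (p ^ 2) ^ B * 3 ^ B) : False := by
  obtain ⟨k, hk⟩ := hp.odd_of_ne_two (by omega)
  have h3 : ¬ 3 ∣ p ^ 2 + 1 := by
    intro hd
    have hm : p % 3 = 0 ∨ p % 3 = 1 ∨ p % 3 = 2 := by omega
    rw [Nat.dvd_iff_mod_eq_zero, Nat.add_mod, Nat.pow_mod] at hd
    rcases hm with e | e | e <;> rw [e] at hd <;> norm_num at hd
  have hc3 : Nat.Coprime (p ^ 2 + 1) (3 ^ B) :=
    ((Nat.prime_three.coprime_iff_not_dvd).2 h3).symm.pow_right B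
  have hcp : Nat.Coprime (p ^ 2 + 1) ((p ^ 2) ^ B) := by
    refine Nat.Coprime.pow_right B ?_
    rw [Nat.coprime_self_add_left]
    exact Nat.coprime_one_left _
  obtain ⟨i, -, hi⟩ := (Nat.dvd_prime_pow Nat.prime_two).1
    (hcp.dvd_of_dvd_mul_right (hc3.dvd_of_dvd_mul_right h))
  have e : p ^ 2 + 1 = 4 * (k * k + k) + 2 := by rw [hk]; ring
  rcases lt_or_ge i 2 with h2 | h2
  · interval_cases i <;> nlinarith
  · obtain ⟨j, hj⟩ : 4 ∣ 2 ^ i := (pow_dvd_pow 2 h2 : 2 ^ 2 ∣ 2 ^ i)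
    omega

variable {G : Type u} [Group G] [Finite G] [IsSimpleGroup G]

theorem false_of_four_sq_three (hnc : ¬ ∀ a b : G, a * b = b * a) {p b : ℕ} (hp : p.Prime)
    (hp5 : 5 ≤ p) (hG : Nat.card G = 4 * p ^ 2 * 3 ^ b) : False := by
  classical
  letI := Fintype.ofFinite G
  haveI : Fact (Nat.Prime 2) := ⟨Nat.prime_two⟩
  haveI : Fact p.Prime := ⟨hp⟩
  have hpo : ¬ 2 ∣ p := fun h => by
    have := (Nat.prime_dvd_prime_iff_eq Nat.prime_two hp).1 h
    omega
  have h2m : ¬ 2 ∣ p ^ 2 * 3 ^ b := fun h => by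
    rcases Nat.prime_two.dvd_mul.1 h with h | h
    · exact hpo (Nat.prime_two.dvd_of_dvd_pow h)
    · exact absurd (Nat.prime_two.dvd_of_dvd_pow h) (by norm_num)
  obtain ⟨T⟩ : Nonempty (Sylow 2 G) := inferInstance
  have hT : Nat.card (T : Subgroup G) = 2 ^ 2 :=
    Cfsg.Lib.Small.card_sylow_of_factor T (m := p ^ 2 * 3 ^ b) (by rw [hG]; ring) h2m
  obtain ⟨Q⟩ : Nonempty (Sylow p G) := inferInstance
  have hQ : Nat.card (Q : Subgroup G) = p ^ 2 :=
    Cfsg.Lib.Small.card_sylow_of_factor Q (m := 4 * 3 ^ b) (by rw [hG]; ring) fun h => by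
      rcases hp.dvd_mul.1 h with h | h
      · have := (Nat.prime_dvd_prime_iff_eq hp Nat.prime_two).1
          (hp.dvd_of_dvd_pow (show p ∣ 2 ^ 2 from h))
        omega
      · have := (Nat.prime_dvd_prime_iff_eq hp Nat.prime_three).1 (hp.dvd_of_dvd_pow h)
        omega
  have hnon : ¬ ∃ N : Subgroup G, N.Normal ∧ Nat.card N = p ^ 2 * 3 ^ b := by
    rintro ⟨N, hN, hc⟩
    have : 0 < p ^ 2 * 3 ^ b := Nat.mul_pos (pow_pos hp.pos 2) (pow_pos (by norm_num) b)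
    rcases hN.eq_bot_or_eq_top with e | e
    · rw [e, Subgroup.card_bot] at hc
      have : 25 ≤ p ^ 2 * 3 ^ b := by
        calc 25 = 5 ^ 2 * 1 := by norm_num
          _ ≤ _ := Nat.mul_le_mul (Nat.pow_le_pow_left hp5 2) (Nat.one_le_pow _ _ (by norm_num))
      omega
    · rw [e, Subgroup.card_top, hG, mul_assoc] at hc
      omega
  obtain ⟨⟨J, hJT⟩, hJ0⟩ := exists_prime_orderOf_dvd_card' (G := (T : Subgroup G)) 2
    (by rw [hT]; norm_num)
  have hJ2 : orderOf J = 2 := by rw [Subgroup.orderOf_mk] at hJ0; exact hJ0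
  have hT4 : Nat.card (T : Subgroup G) = 4 := by rw [hT]; norm_num
  obtain ⟨hexp, hone⟩ := klein_of_no_complement (g₀ := p ^ 2 * 3 ^ b)
    (by rw [hG]; ring) hnon T hT4 hJT hJ2
  obtain ⟨M, hM⟩ := exists_isPModular Nat.prime_two
  obtain ⟨ε, hcard, hε1, hε⟩ := klein_values hT4 hexp hM hone
  have hB : IsPBlock M (principalBlock M G) := isPBlock_blockOf (principal G)
  have hJd : 2 ∣ orderOf J := dvd_of_eq hJ2.symm
  set S := Finset.univ.filter (fun φ : IrrCharacter G => φ ∈ principalBlock M G) with hS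
  have hmem : ∀ φ, φ ∈ S → φ ∈ principalBlock M G := fun φ h => (Finset.mem_filter.1 h).2
  have hrel : ∑ φ ∈ S, ε φ * (deg (φ : G → ℂ) : ℤ) = 0 := by
    have h := block_orthogonality_regular hM hB (show ¬ 2 ∣ orderOf (1 : G) by
      rw [orderOf_one]; norm_num) hJd
    apply Int.cast_injective (α := ℂ)
    push_cast
    refine Eq.trans (Finset.sum_congr rfl fun φ hφ => ?_) h
    rw [(hε φ (hmem φ hφ)).2 J hJd, map_intCast, irr_apply_one_eq_deg, mul_comm]
  have hpS : principal G ∈ S :=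
    Finset.mem_filter.2 ⟨Finset.mem_univ _, mem_blockOf_self hM (principal G)⟩
  obtain ⟨χ, hχ, hχ3⟩ : ∃ χ ∈ S.erase (principal G), ¬ 3 ∣ deg (χ : G → ℂ) := by
    by_contra hall
    push Not at hall
    rw [← Finset.add_sum_erase _ _ hpS, hε1, show deg (principal G : G → ℂ) = 1 from
      charDegree_one (H := G)] at hrel
    have : (3 : ℤ) ∣ ∑ φ ∈ S.erase (principal G), ε φ * (deg (φ : G → ℂ) : ℤ) :=
      Finset.dvd_sum fun φ hφ => (Int.natCast_dvd_natCast.2 (hall φ hφ)).mul_left _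
    push_cast at hrel
    omega
  have hχp := Finset.ne_of_mem_erase hχ
  have hχS := Finset.mem_of_mem_erase hχ
  obtain ⟨η, θ, hηθ, hpair⟩ := Finset.card_eq_two.1 (show ((S.erase (principal G)).erase χ).card = 2 by
    rw [Finset.card_erase_of_mem hχ, Finset.card_erase_of_mem hpS, hcard])
  have hη : η ∈ S := Finset.mem_of_mem_erase (Finset.mem_of_mem_erase (s := S.erase (principal G))
    (by rw [hpair]; exact Finset.mem_insert_self _ _ : η ∈ (S.erase (principal G)).erase χ))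
  have hθ : θ ∈ S := Finset.mem_of_mem_erase (Finset.mem_of_mem_erase (s := S.erase (principal G))
    (by rw [hpair]; simp : θ ∈ (S.erase (principal G)).erase χ))
  have hcong : ∀ φ ∈ S, (4 : ℤ) ∣ (deg (φ : G → ℂ) : ℤ) - ε φ := fun φ hφ =>
    klein_deg_congr hT4 hexp hM hone (hε φ (hmem φ hφ)).2
  -- the degree of `χ`
  set x := deg (χ : G → ℂ) with hx
  have hxp : x ∣ p ^ 2 := by
    have hd : x ∣ 4 * p ^ 2 * 3 ^ b := hG ▸ IsIrrCharacter.deg_dvd χ.2
    have hd1 : x ∣ 4 * p ^ 2 :=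
      (((Nat.prime_three.coprime_iff_not_dvd).2 hχ3).symm.pow_right b).dvd_of_dvd_mul_right hd
    have h2 : ¬ 2 ∣ x := by
      intro h2
      rcases (hε χ (hmem χ hχS)).1 with e | e <;> have := hcong χ hχS <;> rw [e, ← hx] at this <;>
        omega
    exact ((((Nat.prime_two.coprime_iff_not_dvd).2 h2).symm).pow_right 2).dvd_of_dvd_mul_left
      (show x ∣ 2 ^ 2 * p ^ 2 from hd1)
  obtain ⟨i, hi2, hi⟩ := (Nat.dvd_prime_pow hp).1 hxp
  have hi' : i = 2 := by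
    have h2 := two_le_deg hnc hχp
    rcases (show i = 0 ∨ i = 1 ∨ i = 2 by omega) with rfl | rfl | rfl
    · rw [← hx, hi, pow_zero] at h2; omega
    · exact absurd (hi.trans (pow_one p)) (deg_ne_prime hnc Q hQ hχp)
    · rfl
  subst hi'
  have hεχ : ε χ = 1 := by
    have h := hcong χ hχS
    obtain ⟨k, hk⟩ := hp.odd_of_ne_two (by omega)
    rw [← hx, hi, show p ^ 2 = 4 * (k * k + k) + 1 by rw [hk]; ring] at h
    push_cast at h
    rcases (hε χ (hmem χ hχS)).1 with e | e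
    · exact e
    · rw [e] at h; omega
  -- the order formula
  have hF := klein_order_formula hT4 hexp hM hone hJT hJ2
  have hval : ∀ φ ∈ S, (φ : G → ℂ) J / (φ : G → ℂ) 1 =
      (ε φ : ℂ) / ((deg (φ : G → ℂ) : ℕ) : ℂ) := fun φ hφ => by
    rw [(hε φ (hmem φ hφ)).2 J hJd, irr_apply_one_eq_deg]
  rw [Finset.sum_congr rfl hval, ← Finset.add_sum_erase _ _ hpS, ← Finset.add_sum_erase _ _ hχ,
    hpair, Finset.sum_pair hηθ, hε1, hεχ, ← hx,
    show deg (principal G : G → ℂ) = 1 from charDegree_one (H := G)] at hF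
  rw [← Finset.add_sum_erase _ _ hpS, ← Finset.add_sum_erase _ _ hχ, hpair, Finset.sum_pair hηθ,
    hε1, hεχ, ← hx, show deg (principal G : G → ℂ) = 1 from charDegree_one (H := G)] at hrel
  have q1 : ε η * ε η = 1 := by rcases (hε η (hmem η hη)).1 with e | e <;> rw [e] <;> norm_num
  have q2 : ε θ * ε θ = 1 := by rcases (hε θ (hmem θ hθ)).1 with e | e <;> rw [e] <;> norm_num
  set y := deg (η : G → ℂ) with hy
  set z := deg (θ : G → ℂ) with hz
  set c := Nat.card (Subgroup.centralizer ({J} : Set G))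
  set cP := Nat.card (Subgroup.centralizer ((T : Subgroup G) : Set G))
  have hx0 : (x : ℂ) ≠ 0 := Nat.cast_ne_zero.2 (deg_irr_pos χ).ne'
  have hy0 : (y : ℂ) ≠ 0 := Nat.cast_ne_zero.2 (deg_irr_pos η).ne'
  have hz0 : (z : ℂ) ≠ 0 := Nat.cast_ne_zero.2 (deg_irr_pos θ).ne'
  have e1 : 8 * (c : ℤ) ^ 3 * ((x : ℤ) * y * z) =
      (Nat.card G : ℤ) * (cP : ℤ) ^ 2 * ((x + 1) * ((y + ε η) * (z + ε θ))) := by
    apply Int.cast_injective (α := ℂ)
    have hr : (1 : ℂ) + x + ε η * y + ε θ * z = 0 := by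
      have := congrArg (fun t : ℤ => (t : ℂ)) hrel
      push_cast at this
      linear_combination this
    have r1 : (ε η : ℂ) * ε η = 1 := by exact_mod_cast q1
    have r2 : (ε θ : ℂ) * ε θ = 1 := by exact_mod_cast q2
    push_cast at hF ⊢
    field_simp at hF
    linear_combination hF - (Nat.card G : ℂ) * (cP : ℂ) ^ 2 * ((ε η : ℂ) * ε θ) * hr +
      (Nat.card G : ℂ) * (cP : ℂ) ^ 2 * ((y : ℂ) * ε θ) * r1 +
      (Nat.card G : ℂ) * (cP : ℂ) ^ 2 * ((z : ℂ) * ε η) * r2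
  have hdvd : x + 1 ∣ 8 * c ^ 3 * (x * y * z) := by
    apply Int.natCast_dvd_natCast.1
    push_cast
    rw [e1]
    exact Dvd.dvd.mul_left (dvd_mul_right _ _) _
  have hall : 8 * c ^ 3 * (x * y * z) ∣ 8 * (Nat.card G) ^ 3 * (Nat.card G * Nat.card G * Nat.card G) :=
    mul_dvd_mul (mul_dvd_mul_left 8 (pow_dvd_pow_of_dvd (Subgroup.card_subgroup_dvd_card _) 3))
      (mul_dvd_mul (mul_dvd_mul (IsIrrCharacter.deg_dvd χ.2) (IsIrrCharacter.deg_dvd η.2))
      (IsIrrCharacter.deg_dvd θ.2))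
  rw [hi] at hdvd hall
  refine not_succ_sq_smooth hp hp5 (B := 15 + 6 * b) ((hdvd.trans hall).trans ?_)
  rw [hG, show 8 * (4 * p ^ 2 * 3 ^ b) ^ 3 * ((4 * p ^ 2 * 3 ^ b) * (4 * p ^ 2 * 3 ^ b) *
    (4 * p ^ 2 * 3 ^ b)) = 2 ^ 15 * (p ^ 2) ^ 6 * 3 ^ (6 * b) by ring]
  exact mul_dvd_mul (mul_dvd_mul (pow_dvd_pow _ (by omega)) (pow_dvd_pow _ (by omega)))
    (pow_dvd_pow _ (by omega))

end Cfsg.Lib.Small.FourPQ
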