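import Mathlib
import Cfsg.Agent.Small.FourPQ.TwoBlock
import Cfsg.Agent.Small.FourPQ.PrimeData
import Cfsg.Agent.Small.SylowInter
import Cfsg.Agent.Classical.Misc.SixtyGroup
import Cfsg.Agent.Classical.Misc.SmallPSL
import Cfsg.Agent.S0496
import Cfsg.Agent.S0495
import Cfsg.Agent.S0997
import Cfsg.Agent.S0998

/-!
# Simple groups of order `4p^aq^b` and `3p^aq^b` with `a ≤ 2`
-/

set_option autoImplicit false
set_option linter.unusedSectionVars false

namespace Cfsg.Lib.Small.FourPQ

open Cfsg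
open scoped _root_.Classical

universe u

variable {G : Type u} [Group G] [Finite G] [IsSimpleGroup G]

/-- The number of Sylow subgroups of a nonabelian simple group. -/
theorem sylow_facts (hnc : ¬ ∀ a b : G, a * b = b * a) {q b m : ℕ} [Fact q.Prime]
    (hG : Nat.card G = q ^ b * m) (hm : ¬ q ∣ m) (hb : b ≠ 0) :
    Nat.card (Sylow q G) ∣ m ∧ Nat.card (Sylow q G) % q = 1 ∧ 2 ≤ Nat.card (Sylow q G) ∧
      2 * Nat.card G ∣ (Nat.card (Sylow q G)).factorial := by
  have hq := (Fact.out : q.Prime)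
  obtain ⟨P⟩ : Nonempty (Sylow q G) := inferInstance
  have hP := Cfsg.Lib.Small.card_sylow_of_factor P hG hm
  have h1 : Nat.card (Sylow q G) ∣ m := by
    have := P.card_dvd_index
    have h2 := (P : Subgroup G).index_mul_card
    rw [hP, hG, mul_comm (q ^ b)] at h2
    rwa [Nat.eq_of_mul_eq_mul_right (pow_pos hq.pos b) h2] at this
  have hne : Subgroup.normalizer ((P : Subgroup G) : Set G) ≠ ⊤ := fun e => by
    rcases (Subgroup.normalizer_eq_top_iff.1 e).eq_bot_or_eq_top with h | h
    · rw [h, Subgroup.card_bot] at hP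
      exact hb ((Nat.pow_eq_one.1 hP.symm).resolve_left hq.ne_one)
    · refine false_of_two_primes hnc hq hq (a := b) (b := 0) ?_
      rw [← Subgroup.card_top, ← h, hP, pow_zero, mul_one]
  refine ⟨h1, ?_, ?_, ?_⟩
  · have h : Nat.card (Sylow q G) % q = 1 % q := card_sylow_modEq_one q G
    rwa [Nat.mod_eq_of_lt hq.one_lt] at h
  · have h0 : Nat.card (Sylow q G) ≠ 0 := Nat.card_pos.ne'
    have h' : Nat.card (Sylow q G) ≠ 1 := fun e => hne
      (Subgroup.index_eq_one.1 (P.card_eq_index_normalizer ▸ e))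
    omega
  · rw [P.card_eq_index_normalizer]
    exact Cfsg.Lib.Small.two_mul_card_dvd_index_factorial hnc _ hne

/-- The orders `12q^b` and `36q^b`. -/
theorem alt_five_of_twelve (hnc : ¬ ∀ a b : G, a * b = b * a) {q b m : ℕ} (hq : q.Prime)
    (hq5 : 5 ≤ q) (hb : b ≠ 0) (hm : m = 12 ∨ m = 36) (hG : Nat.card G = m * q ^ b) :
    Nonempty (G ≃* alternatingGroup (Fin 5)) := by
  haveI := Fact.mk hq
  have hqm : ¬ q ∣ m := fun h => by
    rcases hm with rfl | rfl
    all_goals
      have := Nat.le_of_dvd (by norm_num) h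
      interval_cases q <;> first | (norm_num at hq; done) | (norm_num at h; done)
  have hG' : Nat.card G = q ^ b * m := by rw [hG, mul_comm]
  obtain ⟨hn, hmod, hn2, -⟩ := sylow_facts hnc hG' hqm hb
  have hn36 : Nat.card (Sylow q G) ∣ 36 := hn.trans (by rcases hm with rfl | rfl <;> norm_num)
  set n := Nat.card (Sylow q G) with hndef
  have hnle : n ≤ 36 := Nat.le_of_dvd (by norm_num) hn36
  have hqd : q ∣ n - 1 := by
    have := Nat.div_add_mod n q
    exact ⟨n / q, by omega⟩
  have hqle : q ≤ n - 1 := Nat.le_of_dvd (by omega) hqd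
  rcases eq_or_ne b 1 with rfl | hb1
  · -- small orders
    rw [pow_one] at hG
    have hq17 : q = 5 ∨ q = 7 ∨ q = 11 ∨ q = 17 := by
      have hmem := Nat.mem_divisors.2 ⟨hn36, by norm_num⟩
      rw [show Nat.divisors 36 = {1, 2, 3, 4, 6, 9, 12, 18, 36} by decide] at hmem
      simp only [Finset.mem_insert, Finset.mem_singleton] at hmem
      rcases hmem with h | h | h | h | h | h | h | h | h <;> rw [h] at hqd hqle <;>
        interval_cases q <;> simp_all (config := { decide := true })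
    have hle : Nat.card G ≤ 1092 := by
      rw [hG]
      rcases hm with rfl | rfl <;> rcases hq17 with rfl | rfl | rfl | rfl <;> norm_num
    have := Cfsg.Agent.S0496.result (fun hc => hnc fun a b => hc.is_comm.comm a b) hle
    refine Cfsg.Lib.Classical.SixtyGroup.iso_alt_five inferInstance ?_
    rw [hG] at this ⊢
    rcases hm with rfl | rfl <;> rcases hq17 with rfl | rfl | rfl | rfl <;> simp at this ⊢
  · exfalso
    obtain ⟨P⟩ : Nonempty (Sylow q G) := inferInstance
    have hnmod : ¬ n ≡ 1 [MOD q ^ 2] := fun h => by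
      have hd : q ^ 2 ∣ n - 1 := (Nat.modEq_iff_dvd' (by omega)).1 h.symm
      have h25 : 25 ≤ q ^ 2 := Nat.pow_le_pow_left hq5 2
      obtain ⟨c, hc⟩ := hd
      have h35 : q ^ 2 * c ≤ 35 := by omega
      rcases c with _ | _ | c
      · omega
      · have hq6 : q ≤ 5 := by nlinarith
        obtain rfl : q = 5 := by omega
        obtain ⟨e, he⟩ := hn36
        rw [show n = 26 by omega] at he
        omega
      · nlinarith
    obtain ⟨R, k, j, -, -, -, -, hk, hk1, hkj, -, hi, hfac, -⟩ :=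
      Cfsg.Lib.Small.exists_inter_data hnc hG' hqm (by omega) P hnmod
    set H := Subgroup.normalizer (((P : Subgroup G) ⊓ R : Subgroup G) : Set G)
    have hm36 : m ≤ 36 := by omega
    have hkj0 : k * j ≠ 0 := fun e => by rw [e, mul_zero] at hi; omega
    have hk6 : 6 ≤ k * j := by
      have hj : 0 < j := Nat.pos_of_ne_zero fun e => hkj0 (by rw [e, mul_zero])
      have := Nat.div_add_mod k q
      have : k / q ≠ 0 := fun e => by rw [e] at this; omega
      have : q ≤ q * (k / q) := Nat.le_mul_of_pos_right _ (Nat.pos_of_ne_zero this)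
      exact le_trans (show 6 ≤ k by omega) (Nat.le_mul_of_pos_right _ hj)
    have hidx : H.index ≤ 6 := by
      by_contra hlt
      have : 7 * 6 ≤ H.index * (k * j) := Nat.mul_le_mul (by omega) hk6
      omega
    have hd : q ^ 2 ∣ 720 := by
      refine Dvd.dvd.trans ?_ (Nat.factorial_dvd_factorial hidx)
      refine Dvd.dvd.trans ?_ hfac
      rw [hG']
      exact Dvd.dvd.mul_left (Dvd.dvd.mul_right (pow_dvd_pow q (by omega)) m) 2
    have hq26 : q ≤ 26 := by
      have := Nat.le_of_dvd (by norm_num) hd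
      nlinarith
    interval_cases q <;> first | (norm_num at hq; done) | (norm_num at hd; done)

/-- The orders `20·3^b`. -/
theorem alt_five_of_twenty (hnc : ¬ ∀ a b : G, a * b = b * a) {b : ℕ} (hb : b ≠ 0)
    (hG : Nat.card G = 20 * 3 ^ b) : Nonempty (G ≃* alternatingGroup (Fin 5)) := by
  haveI := Fact.mk Nat.prime_three
  obtain ⟨hn, hmod, hn2, hfac⟩ := sylow_facts hnc (q := 3) (m := 20) (b := b)
    (by rw [hG, mul_comm]) (by norm_num) hb
  have hle : Nat.card (Sylow 3 G) ≤ 10 := by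
    have := Nat.le_of_dvd (by norm_num) hn
    by_contra h
    obtain ⟨c, hc⟩ := hn
    rcases c with _ | _ | c
    · omega
    · omega
    · nlinarith
  have hd : 3 ^ b ∣ 3628800 := by
    refine Dvd.dvd.trans ?_ (hfac.trans (Nat.factorial_dvd_factorial hle))
    rw [hG]
    exact Dvd.dvd.mul_left (Dvd.dvd.mul_left dvd_rfl _) _
  have hb5 : b < 5 := by
    by_contra h
    exact absurd ((pow_dvd_pow 3 (show 5 ≤ b by omega)).trans hd) (by norm_num)
  refine Cfsg.Lib.Classical.SixtyGroup.iso_alt_five inferInstance ?_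
  have hna' : ¬ IsMulCommutative G := fun hc => hnc fun a b => hc.is_comm.comm a b
  interval_cases b
  · exact absurd rfl hb
  · rw [hG]; norm_num
  · have := Cfsg.Agent.S0496.result hna' (by rw [hG]; norm_num)
    rw [hG] at this ⊢; norm_num at this
  · have := Cfsg.Agent.S0496.result hna' (by rw [hG]; norm_num)
    rw [hG] at this ⊢; norm_num at this
  · exact absurd (by rw [hG]; norm_num) (card_ne_1620 hnc)

/-- The orders `4·3^b·p` with `p ≥ 7`. -/
theorem false_of_four_three (hnc : ¬ ∀ a b : G, a * b = b * a) {p b : ℕ} (hp : p.Prime)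
    (hp7 : 7 ≤ p) (hG : Nat.card G = 4 * p * 3 ^ b) : False := by
  have h8 : ¬ 8 ∣ Nat.card G := by
    rw [hG, mul_assoc, show (8 : ℕ) = 4 * 2 by norm_num]
    intro h
    rcases Nat.prime_two.dvd_mul.1 (Nat.dvd_of_mul_dvd_mul_left (by norm_num) h) with h | h
    · have := (Nat.prime_dvd_prime_iff_eq Nat.prime_two hp).1 h; omega
    · exact absurd (Nat.prime_two.dvd_of_dvd_pow h) (by norm_num)
  rcases Cfsg.Agent.S0997.result (not_isCyclic hnc) p 3 b 4 hp Nat.prime_three (by omega)
    (by rw [hG]; ring) (by omega) with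
    ⟨m, F, iF, iF', hF, hpm, ⟨e⟩⟩ | ⟨m, F, iF, iF', hF, hpm, -, ⟨e⟩⟩
  · have hc := Cfsg.Lib.Classical.SmallPSL.card_psl hF
    rw [← Nat.card_congr e.toEquiv] at hc
    obtain ⟨k, hk⟩ := hp.odd_of_ne_two (by omega)
    have hg : Nat.gcd 2 (p - 1) = 2 := Nat.gcd_eq_left ⟨k, by omega⟩
    rw [hg] at hc
    -- sixteen divides twice the order
    have hm3 : 3 ≤ m := by
      by_contra h
      interval_cases m <;> norm_num at hpm <;> omega
    obtain ⟨t, ht⟩ : 8 ∣ 2 ^ m := (pow_dvd_pow 2 hm3 : 2 ^ 3 ∣ 2 ^ m)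
    have h16 : 16 ∣ p ^ 2 - 1 := by
      rcases hpm with h | h
      · refine ⟨t * (4 * t + 1), Nat.sub_eq_of_eq_add ?_⟩
        rw [h, ht]; ring
      · obtain ⟨t', rfl⟩ : ∃ t', t = t' + 1 := ⟨t - 1, by omega⟩
        refine ⟨(t' + 1) * (4 * t' + 3), Nat.sub_eq_of_eq_add ?_⟩
        rw [h, ht, show 8 * (t' + 1) - 1 = 8 * t' + 7 by omega]; ring
    refine h8 ?_
    obtain ⟨r, hr⟩ := h16
    exact ⟨p * r, by rw [hr, ← mul_assoc] at hc; linarith⟩
  · have hm3 : 3 ≤ m := by
      by_contra h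
      interval_cases m <;> norm_num at hpm <;> omega
    have hc := Cfsg.Lib.Classical.SmallPSL.card_psl hF
    rw [← Nat.card_congr e.toEquiv] at hc
    have hg : Nat.gcd 2 (2 ^ m - 1) = 1 := by
      obtain ⟨t, ht⟩ : 2 ∣ 2 ^ m := dvd_pow_self 2 (by omega)
      have : 0 < t := by
        rcases Nat.eq_zero_or_pos t with e | e
        · rw [e] at ht; simp at ht
        · exact e
      exact Nat.coprime_two_left.2 ⟨t - 1, by omega⟩
    rw [hg, one_mul] at hc
    exact h8 (hc ▸ ((pow_dvd_pow 2 hm3 : 2 ^ 3 ∣ 2 ^ m).mul_right _))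

/-- The order `4p^aq^b`. -/
theorem four_case (hnc : ¬ ∀ a b : G, a * b = b * a) {p q a b : ℕ} (hp : p.Prime) (hq : q.Prime)
    (hpq : p ≠ q) (ha : a ≤ 2) (hG : Nat.card G = 4 * p ^ a * q ^ b) :
    Nonempty (G ≃* alternatingGroup (Fin 5)) := by
  rcases Nat.eq_zero_or_pos a with rfl | ha0
  · exact (false_of_two_primes hnc Nat.prime_two hq (a := 2) (b := b) (by rw [hG]; ring)).elim
  rcases Nat.eq_zero_or_pos b with rfl | hb0
  · exact (false_of_two_primes hnc Nat.prime_two hp (a := 2) (b := a) (by rw [hG]; ring)).elim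
  rcases eq_or_ne p 2 with rfl | hp2
  · exact (false_of_two_primes hnc Nat.prime_two hq (a := 2 + a) (b := b) (by rw [hG, pow_add]; ring)).elim
  rcases eq_or_ne q 2 with rfl | hq2
  · exact (false_of_two_primes hnc Nat.prime_two hp (a := 2 + b) (b := a) (by rw [hG, pow_add]; ring)).elim
  have h2 : ¬ 2 ∣ p ^ a * q ^ b := fun h => by
    rcases Nat.prime_two.dvd_mul.1 h with h | h
    · exact hp2 ((Nat.prime_dvd_prime_iff_eq Nat.prime_two hp).1 (Nat.prime_two.dvd_of_dvd_pow h)).symm
    · exact hq2 ((Nat.prime_dvd_prime_iff_eq Nat.prime_two hq).1 (Nat.prime_two.dvd_of_dvd_pow h)).symm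
  have h8 : ¬ 8 ∣ Nat.card G := by
    rw [hG, mul_assoc, show (8 : ℕ) = 4 * 2 by norm_num]
    exact fun h => h2 (Nat.dvd_of_mul_dvd_mul_left (by norm_num) h)
  haveI : Fact (Nat.Prime 2) := ⟨Nat.prime_two⟩
  obtain ⟨T⟩ : Nonempty (Sylow 2 G) := inferInstance
  obtain ⟨-, h3⟩ := Cfsg.Agent.S0992.result (fun hc => hnc fun a b => hc.is_comm.comm a b)
    (by rw [hG]; exact ⟨2 * p ^ a * q ^ b, by ring⟩) h8 T
  have h3G : 3 ∣ 2 ^ 2 * p ^ a * q ^ b := by
    rw [show 2 ^ 2 * p ^ a * q ^ b = Nat.card G by rw [hG]; norm_num, ← h3]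
    exact (Subgroup.relIndex_dvd_card _ _).trans (Subgroup.card_subgroup_dvd_card _)
  have h3pq : p = 3 ∨ q = 3 := by
    rcases Nat.prime_three.dvd_mul.1 h3G with h | h
    · rcases Nat.prime_three.dvd_mul.1 h with h | h
      · norm_num at h
      · exact Or.inl ((Nat.prime_dvd_prime_iff_eq Nat.prime_three hp).1 (Nat.prime_three.dvd_of_dvd_pow h)).symm
    · exact Or.inr ((Nat.prime_dvd_prime_iff_eq Nat.prime_three hq).1 (Nat.prime_three.dvd_of_dvd_pow h)).symm
  have four_ne : ∀ r : ℕ, r.Prime → r ≠ 4 := fun r h e => by rw [e] at h; norm_num at h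
  rcases h3pq with rfl | rfl
  · have hq5 : 5 ≤ q := by
      have := hq.two_le; have := four_ne q hq; omega
    refine alt_five_of_twelve hnc hq hq5 (m := 4 * 3 ^ a) (by omega) ?_ hG
    rcases (show a = 1 ∨ a = 2 by omega) with rfl | rfl <;> norm_num
  · have hp5 : 5 ≤ p := by
      have := hp.two_le; have := four_ne p hp; omega
    rcases (show a = 1 ∨ a = 2 by omega) with rfl | rfl
    · rcases (show p = 5 ∨ p = 6 ∨ 7 ≤ p by omega) with rfl | rfl | h7
      · exact alt_five_of_twenty hnc hb0.ne' (by rw [hG]; norm_num)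
      · norm_num at hp
      · exact (false_of_four_three hnc hp h7 (by rw [hG, pow_one])).elim
    · exact (false_of_four_sq_three hnc hp hp5 hG).elim

/-- The order `3p^aq^b`. -/
theorem three_case (hnc : ¬ ∀ a b : G, a * b = b * a) {p q a b : ℕ} (hp : p.Prime) (hq : q.Prime)
    (hpq : p ≠ q) (ha : a ≤ 2) (hG : Nat.card G = 3 * p ^ a * q ^ b) :
    Nonempty (G ≃* alternatingGroup (Fin 5)) ∨
      Nonempty (G ≃* Matrix.ProjectiveSpecialLinearGroup (Fin 2) (ZMod 7)) := by
  rcases eq_or_ne p 3 with rfl | hp3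
  · exact (false_of_two_primes hnc Nat.prime_three hq (a := 1 + a) (b := b) (by rw [hG, pow_add]; ring)).elim
  rcases eq_or_ne q 3 with rfl | hq3
  · exact (false_of_two_primes hnc Nat.prime_three hp (a := 1 + b) (b := a) (by rw [hG, pow_add]; ring)).elim
  rcases (show a = 0 ∨ a = 1 ∨ a = 2 by omega) with rfl | rfl | rfl
  · exact (false_of_two_primes hnc Nat.prime_three hq (a := 1) (b := b) (by rw [hG]; ring)).elim
  · haveI : Fact (Nat.Prime 7) := ⟨by norm_num⟩
    rcases Cfsg.Agent.S0998.result (not_isCyclic hnc) 3 q p b Nat.prime_three hq hp hq3.symm hp3.symm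
      hpq.symm (by rw [hG, pow_one]) with ⟨F, iF, iF', hF, ⟨e⟩⟩ | ⟨F, iF, iF', hF, ⟨e⟩⟩
    · have hc := Cfsg.Lib.Classical.SmallPSL.card_psl hF
      rw [← Nat.card_congr e.toEquiv] at hc
      norm_num at hc
      exact Or.inl (Cfsg.Lib.Classical.SixtyGroup.iso_alt_five inferInstance (by omega))
    · have hc := Cfsg.Lib.Classical.SmallPSL.card_psl hF
      rw [← Nat.card_congr e.toEquiv] at hc
      norm_num at hc
      exact Or.inr (Cfsg.Agent.S0495.result (by omega) (ZMod.card 7))
  · rcases eq_or_ne p 2 with rfl | hp2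
    · exact Or.inl (four_case hnc Nat.prime_three hq (Ne.symm hq3) (a := 1) (b := b) (by norm_num)
        (by rw [hG]; ring))
    · have hp5 : 5 ≤ p := by
        have := hp.two_le
        have : p ≠ 4 := fun e => by rw [e] at hp; norm_num at hp
        omega
      exact (false_of_three_sq hnc hp hq hpq hp5 hq3 hG).elim

end Cfsg.Lib.Small.FourPQ
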